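import Cfsg.Agent.Lib.FusionAlperin.MathieuCert
import Cfsg.Agent.Lib.FusionAlperin.M24Data
import Cfsg.Agent.Lib.M24SylowQuot.Data

/-!
# Boolean certificate checks for the Sylow 2-subgroup of M24 modulo its centre
-/

set_option autoImplicit false

namespace Cfsg.Agent.Lib.M24SylowQuot

open Cfsg.Agent.Lib.Computation Cfsg.Agent.Lib.Golay Cfsg.Agent.Lib.FusionAlperin.MathieuCert

/-- The generators of the Sylow 2-subgroup. -/
abbrev gensP : List ℕ := Cfsg.Agent.Lib.FusionAlperin.M24Data.gens

/-- Its central involution. -/
abbrev zc : ℕ := Cfsg.Agent.Lib.FusionAlperin.M24Data.central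

/-- Its listed elements with words. -/
abbrev elsP : List (ℕ × List ℕ) := Cfsg.Agent.Lib.FusionAlperin.M24Data.els

/-- Equality of codes modulo the central involution. -/
def congB (a b : ℕ) : Bool :=
  Nat.beq (canon a) (canon b) || Nat.beq (canon a) (canon (mulP 24 5 b zc))

/-- Two codes commute modulo the central involution. -/
def commB (a b : ℕ) : Bool := congB (mulP 24 5 a b) (mulP 24 5 b a)

/-- A list without repeated entries. -/
def nodupB : List ℕ → Bool
  | [] => true
  | a :: l => (l.all fun b => !Nat.beq a b) && nodupB l

/-- Canonical codes of the conjugates of `x` and of their translates by the centre. -/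
def orbitCodes (x : ℕ) (idx : List ℕ) : List ℕ :=
  (idx.map fun i =>
    canon (mulP 24 5 (mulP 24 5 (Data.conjs.getD i (0, 0)).2 x) (Data.conjs.getD i (0, 0)).1)) ++
  (idx.map fun i =>
    canon (mulP 24 5 (mulP 24 5 (mulP 24 5 (Data.conjs.getD i (0, 0)).2 x)
      (Data.conjs.getD i (0, 0)).1) zc))

/-- A certificate that `x` lies in no abelian subgroup of order 64 of the quotient. -/
def repOk (t : STree) (e : ℕ × List ℕ × ℕ × ℕ) : Bool :=
  t.has e.1 && (e.2.1.all fun i => Nat.blt i Data.conjs.length) && nodupB (orbitCodes e.1 e.2.1) &&
    (Nat.ble 9 e.2.1.length ||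
      (Nat.ble 8 e.2.1.length && t.has e.2.2.1 && t.has e.2.2.2 && commB e.1 e.2.2.1 &&
        commB e.1 e.2.2.2 && !commB e.2.2.1 e.2.2.2))

/-- All the representatives. -/
def repsOk : Bool :=
  let t := buildTree 12 (elsP.map Prod.fst)
  (Data.conjs.all fun y => t.has y.1 && t.has y.2 &&
    Nat.beq (canon (mulP 24 5 y.1 y.2)) oneCode) &&
  (Data.exc.all fun c => t.has c) && Data.reps.all (repOk t)

/-- Every element is congruent to a representative or lies in the subgroup of order 128. -/
def clsOk : Bool :=
  let tA := buildTree 10 (Data.elsA.map Prod.fst)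
  let tE := buildTree 8 Data.exc
  let tR := buildTree 11 (Data.reps.map Prod.fst)
  (List.zip Data.cls (elsP.map Prod.fst)).all (fun p => Nat.beq p.1.1 p.2 &&
    congB p.1.1 p.1.2 && (tA.has p.1.2 || tE.has p.1.2 || tR.has p.1.2)) &&
  Nat.beq Data.cls.length (elsP.map Prod.fst).length

/-- Codes of elements of the maximal subgroup avoiding the generators in `v`. -/
def maxCodes (v : List Bool) : List ℕ :=
  let l := List.zip gensP v
  let yes := (l.filter fun p => p.2).map Prod.fst
  ((l.filter fun p => !p.2).map Prod.fst) ++
    yes.map fun g => canon (mulP 24 5 (yes.getD 0 oneCode) g)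

/-- The centre of every maximal subgroup is small. -/
def maxOk : Bool :=
  [false, true].all fun a => [false, true].all fun b => [false, true].all fun c =>
    [false, true].all fun d =>
      !(a || b || c || d) || forceNat
        ((elsP.map Prod.fst).countP fun x => (maxCodes [a, b, c, d]).all fun y => commB x y)
        (fun k => Nat.ble k 16)

theorem groupOk_P : groupOk inM24 gensP elsP = true := by decide +kernel

theorem length_P : (elsP.map Prod.fst).length = 1024 := by decide +kernel

theorem centreOk_P : centreOk gensP (elsP.map Prod.fst) zc = true := by decide +kernel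

theorem groupOk_A : groupOk (fun c => (buildTree 12 (elsP.map Prod.fst)).has c) Data.gensA
    Data.elsA = true := by decide +kernel

theorem length_A : (Data.elsA.map Prod.fst).length = 128 := by decide +kernel

theorem squares_A : ((Data.elsA.map Prod.fst).all fun c => congB (mulP 24 5 c c) oneCode) = true :=
  by decide +kernel

theorem mem_A : Data.gensA.contains zc = true := by decide +kernel

theorem exc_length : Data.exc.length ≤ 16 := by decide +kernel

theorem repsOk_P : repsOk = true := by decide +kernel

theorem clsOk_P : clsOk = true := by decide +kernel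

theorem maxOk_P : maxOk = true := by decide +kernel

end Cfsg.Agent.Lib.M24SylowQuot
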