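import Cfsg.Agent.Lib.M24SylowQuot.Checks
import Cfsg.Prelude.Def_Transfer
import Mathlib.GroupTheory.Sylow
import Cfsg.Agent.Lib.PGroups.Frattini

/-!
# The Sylow 2-subgroup of M24 modulo its centre
-/

set_option autoImplicit false

namespace Cfsg.Agent.Lib.M24SylowQuot

attribute [local irreducible] Data.exc Data.cls Data.reps Data.elsA Cfsg.Agent.Lib.FusionAlperin.M24Data.els

open Cfsg Cfsg.Agent.Lib.Computation Cfsg.Agent.Lib.Golay Cfsg.Agent.Lib.FusionAlperin.MathieuCert

/-- The coded Sylow 2-subgroup. -/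
noncomputable abbrev K : Subgroup (Equiv.Perm GolayPt) := genBy gensP

/-- The codes of its elements. -/
abbrev LP : List ℕ := elsP.map Prod.fst

theorem dataP : GroupData M24 gensP LP :=
  groupData_of_ok (fun _ h => gperm_mem_M24 h) groupOk_P

theorem card_K : Nat.card K = 1024 := by rw [dataP.card_eq, length_P]

/-- An element given by a code. -/
noncomputable def el (c : ℕ) (hc : c ∈ LP) : K := ⟨gperm c, dataP.gperm_mem hc⟩

/-- The quotient map. -/
noncomputable abbrev qm : K →* K ⧸ Subgroup.center K := QuotientGroup.mk' _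

theorem zc_mem : zc ∈ LP := by
  have h := centreOk_P
  simp only [centreOk, Bool.and_eq_true, List.any_eq_true, Nat.beq_eq] at h
  obtain ⟨⟨⟨⟨c, hc, e⟩, -⟩, -⟩, -⟩ := h
  exact e ▸ hc

/-- The central involution. -/
noncomputable def gz : K := el zc zc_mem

theorem mem_center_iff {x : K} : x ∈ Subgroup.center K ↔ x = 1 ∨ x = gz := by
  obtain ⟨-, -, hc, hall⟩ := centre_spec dataP centreOk_P
  constructor
  · intro hx
    rcases hall x x.2 (fun y hy => congrArg Subtype.val (Subgroup.mem_center_iff.1 hx ⟨y, hy⟩).symm) with h | h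
    · exact Or.inl (Subtype.ext h)
    · exact Or.inr (Subtype.ext h)
  · rintro (rfl | rfl)
    · exact one_mem _
    · exact Subgroup.mem_center_iff.2 fun y => Subtype.ext (hc y y.2).symm

theorem gz_ne : gz ≠ 1 := fun h => (centre_spec dataP centreOk_P).1 (congrArg Subtype.val h)

theorem card_center : Nat.card (Subgroup.center K) = 2 := by
  classical
  have e : ((Subgroup.center K : Subgroup K) : Set K) = {1, gz} :=
    Set.ext fun x => by simp [mem_center_iff]
  change Nat.card ((Subgroup.center K : Subgroup K) : Set K) = 2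
  rw [e, Nat.card_coe_set_eq, Set.ncard_pair gz_ne.symm]

theorem qm_eq_iff {x y : K} : qm x = qm y ↔ (x : Equiv.Perm GolayPt) = y ∨
    (x : Equiv.Perm GolayPt) = y * gperm zc := by
  rw [eq_comm, QuotientGroup.mk'_apply, QuotientGroup.mk'_apply, QuotientGroup.eq, mem_center_iff,
    inv_mul_eq_one, inv_mul_eq_iff_eq_mul]
  constructor
  · rintro (rfl | rfl)
    · exact Or.inl rfl
    · exact Or.inr rfl
  · rintro (h | h)
    · exact Or.inl (Subtype.ext h.symm)
    · exact Or.inr (Subtype.ext h)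

theorem canon_eq_iff {a b : ℕ} (ha : okCode a = true) (hb : okCode b = true) :
    canon a = canon b ↔ gperm a = gperm b := by
  constructor
  · intro h
    refine Equiv.ext fun p => idx_injective ?_
    have h1 := congrArg (fun c => getW 5 c (idx p)) h
    simp only [canon] at h1
    rw [getW_packW (fun x hx => lt_of_lt_of_le (getW_lt ha hx) (by norm_num)) (idx_lt p),
      getW_packW (fun x hx => lt_of_lt_of_le (getW_lt hb hx) (by norm_num)) (idx_lt p)] at h1
    rw [idx_gperm ha, idx_gperm hb, h1]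
  · intro h
    exact canon_congr fun i hi => getW_eq_of_gperm ha hb h hi

theorem congB_iff {a b : ℕ} (ha : okCode a = true) (hb : okCode b = true) {x y : K}
    (hx : (x : Equiv.Perm GolayPt) = gperm a) (hy : (y : Equiv.Perm GolayPt) = gperm b) :
    congB a b = true ↔ qm x = qm y := by
  have hz := (dataP.ok zc zc_mem).1
  rw [qm_eq_iff, congB, Bool.or_eq_true, Nat.beq_eq, Nat.beq_eq, canon_eq_iff ha hb,
    canon_eq_iff ha (okCode_mulP hb hz), gperm_mul hb hz, hx, hy]

theorem commB_iff {a b : ℕ} (ha : a ∈ LP) (hb : b ∈ LP) :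
    commB a b = true ↔ qm (el a ha) * qm (el b hb) = qm (el b hb) * qm (el a ha) := by
  have ha' := (dataP.ok a ha).1
  have hb' := (dataP.ok b hb).1
  rw [← map_mul, ← map_mul, commB]
  refine congB_iff (okCode_mulP ha' hb') (okCode_mulP hb' ha') ?_ ?_ <;>
    simp [el, gperm_mul ha' hb', gperm_mul hb' ha']

theorem exists_code (x : K) : ∃ c, ∃ hc : c ∈ LP, x = el c hc := by
  obtain ⟨c, hc, e⟩ := dataP.exists_code x.2
  exact ⟨c, hc, Subtype.ext e.symm⟩

theorem exists_code' (x : K ⧸ Subgroup.center K) : ∃ c, ∃ hc : c ∈ LP, x = qm (el c hc) := by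
  obtain ⟨y, rfl⟩ := QuotientGroup.mk'_surjective _ x
  obtain ⟨c, hc, rfl⟩ := exists_code y
  exact ⟨c, hc, rfl⟩

theorem card_quot : Nat.card (K ⧸ Subgroup.center K) = 512 := by
  have h := Subgroup.card_eq_card_quotient_mul_card_subgroup (Subgroup.center K)
  rw [card_K, card_center] at h
  omega

theorem card_comap (B : Subgroup (K ⧸ Subgroup.center K)) :
    Nat.card (B.comap qm) = 2 * Nat.card B := by
  have h1 := Subgroup.card_mul_index (B.comap qm)
  rw [Subgroup.index_comap_of_surjective B (QuotientGroup.mk'_surjective _), card_K] at h1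
  have h2 := Subgroup.card_mul_index B
  rw [card_quot] at h2
  nlinarith [Nat.pos_of_ne_zero (Subgroup.index_ne_zero_of_finite (H := B))]

theorem mem_of_check {k : ℕ} {c : ℕ} (h : (buildTree k LP).has c = true) : c ∈ LP := mem_of_has h

/-! ### the abelian subgroup of order 64 -/

/-- The codes of the subgroup of order 128. -/
abbrev LA : List ℕ := Data.elsA.map Prod.fst

theorem dataA : GroupData K Data.gensA LA :=
  groupData_of_ok (fun _ h => dataP.gperm_mem (mem_of_check h)) groupOk_A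

/-- The abelian subgroup of order 64. -/
noncomputable def A64 : Subgroup (K ⧸ Subgroup.center K) :=
  ((genBy Data.gensA).subgroupOf K).map qm

theorem center_le : Subgroup.center K ≤ (genBy Data.gensA).subgroupOf K := by
  intro x hx
  rcases mem_center_iff.1 hx with rfl | rfl
  · exact one_mem _
  · exact Subgroup.mem_subgroupOf.2
      (Subgroup.subset_closure ⟨zc, by simpa using mem_A, rfl⟩)

theorem card_A64 : Nat.card A64 = 64 := by
  have h := card_comap A64
  rw [A64, Subgroup.comap_map_eq_self (by rw [QuotientGroup.ker_mk']; exact center_le),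
    Nat.card_congr (Subgroup.subgroupOfEquivOfLe dataA.le).toEquiv, dataA.card_eq, length_A] at h
  rw [A64]
  omega

theorem code_mem_A64 {c : ℕ} (hc : c ∈ LP) (h : c ∈ LA) : qm (el c hc) ∈ A64 :=
  ⟨_, Subgroup.mem_subgroupOf.2 (dataA.gperm_mem h), rfl⟩

theorem sq_eq_one_of_mem {x : K ⧸ Subgroup.center K} (hx : x ∈ A64) : x ^ 2 = 1 := by
  obtain ⟨y, hy, rfl⟩ := hx
  obtain ⟨c, hc, e⟩ := dataA.exists_code (Subgroup.mem_subgroupOf.1 hy)
  have hok := (dataA.ok c hc).1
  rw [← map_pow, ← map_one qm]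
  refine (congB_iff (okCode_mulP hok hok) okCode_oneCode ?_ ?_).1 (List.all_eq_true.1 squares_A c hc)
  · rw [gperm_mul hok hok, e, pow_two, Subgroup.coe_mul]
  · rw [gperm_oneCode, OneMemClass.coe_one]

theorem isElementaryAbelian_A64 : Cfsg.IsElementaryAbelian 2 A64 := by
  refine ⟨⟨⟨fun a b => ?_⟩⟩, fun x hx => sq_eq_one_of_mem hx⟩
  have hsq : ∀ x : A64, x * x = 1 := fun x => Subtype.ext (by
    rw [Subgroup.coe_mul, ← pow_two]; exact sq_eq_one_of_mem x.2)
  calc a * b = (b * b) * (a * b) * (a * a) := by rw [hsq a, hsq b, mul_one, one_mul]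
    _ = b * (b * a * (b * a)) * a := by group
    _ = b * a := by rw [hsq, mul_one]

/-! ### uniqueness -/

theorem pairwise_of_nodupB : ∀ {l : List ℕ}, nodupB l = true → l.Nodup
  | [], _ => List.nodup_nil
  | a :: l, h => by
    simp only [nodupB, Bool.and_eq_true, List.all_eq_true, Bool.not_eq_true'] at h
    refine List.nodup_cons.2 ⟨fun hm => ?_, pairwise_of_nodupB h.2⟩
    have := h.1 a hm
    simp [Nat.beq_refl] at this

theorem card_centralizer_mul_le {e : ℕ × List ℕ × ℕ × ℕ}
    (hconj : ∀ y ∈ Data.conjs, y.1 ∈ LP ∧ y.2 ∈ LP ∧ canon (mulP 24 5 y.1 y.2) = oneCode)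
    (hx : e.1 ∈ LP) (hi : ∀ i ∈ e.2.1, i < Data.conjs.length)
    (hn : (orbitCodes e.1 e.2.1).Nodup) :
    Nat.card (Subgroup.centralizer ({qm (el e.1 hx)} : Set (K ⧸ Subgroup.center K))) * e.2.1.length
      ≤ 512 := by
  set C := Subgroup.centralizer ({qm (el e.1 hx)} : Set (K ⧸ Subgroup.center K)) with hC
  let y : Fin e.2.1.length → ℕ × ℕ := fun j => Data.conjs.getD (e.2.1[j.1]) (0, 0)
  have hg : ∀ j, y j ∈ Data.conjs := fun j => by
    simp only [y]
    rw [List.getD_eq_getElem _ _ (hi _ (List.getElem_mem j.2))]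
    exact List.getElem_mem _
  let f : Fin e.2.1.length → (K ⧸ Subgroup.center K) ⧸ C := fun j =>
    QuotientGroup.mk (qm (el (y j).2 (hconj _ (hg j)).2.1))
  have hf : Function.Injective f := by
    intro i j h
    have hinv : ∀ k, (el (y k).1 (hconj _ (hg k)).1) = (el (y k).2 (hconj _ (hg k)).2.1)⁻¹ := by
      intro k
      refine eq_inv_of_mul_eq_one_left (Subtype.ext ?_)
      have h1 := (dataP.ok _ (hconj _ (hg k)).1).1
      have h2 := (dataP.ok _ (hconj _ (hg k)).2.1).1
      rw [Subgroup.coe_mul, OneMemClass.coe_one, el, el, ← gperm_oneCode, ← gperm_mul h1 h2,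
        ← canon_eq_iff (okCode_mulP h1 h2) okCode_oneCode, (hconj _ (hg k)).2.2]
      exact ((dataP.ok oneCode dataP.oneMem).2).symm
    obtain ⟨c, hc, hcj⟩ : ∃ c ∈ C, qm (el (y j).2 (hconj _ (hg j)).2.1) =
        qm (el (y i).2 (hconj _ (hg i)).2.1) * c :=
      ⟨_, QuotientGroup.eq.1 h, by rw [mul_inv_cancel_left]⟩
    rw [hC, Subgroup.mem_centralizer_singleton_iff] at hc
    have himg : qm (el (y i).2 (hconj _ (hg i)).2.1 * el e.1 hx * el (y i).1 (hconj _ (hg i)).1) =
        qm (el (y j).2 (hconj _ (hg j)).2.1 * el e.1 hx * el (y j).1 (hconj _ (hg j)).1) := by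
      simp only [hinv, map_mul, map_inv, hcj, mul_inv_rev]
      symm
      calc qm (el (y i).2 (hconj _ (hg i)).2.1) * c * qm (el e.1 hx) *
            (c⁻¹ * (qm (el (y i).2 (hconj _ (hg i)).2.1))⁻¹)
          = qm (el (y i).2 (hconj _ (hg i)).2.1) * (c * qm (el e.1 hx)) * c⁻¹ *
            (qm (el (y i).2 (hconj _ (hg i)).2.1))⁻¹ := by group
        _ = qm (el (y i).2 (hconj _ (hg i)).2.1) * qm (el e.1 hx) *
            (qm (el (y i).2 (hconj _ (hg i)).2.1))⁻¹ := by rw [hc]; group
    let w : Fin e.2.1.length → ℕ := fun k => mulP 24 5 (mulP 24 5 (y k).2 e.1) (y k).1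
    have hok : ∀ k, okCode (w k) = true := fun k =>
      okCode_mulP (okCode_mulP (dataP.ok _ (hconj _ (hg k)).2.1).1 (dataP.ok _ hx).1)
        (dataP.ok _ (hconj _ (hg k)).1).1
    have hcoe : ∀ k, ((el (y k).2 (hconj _ (hg k)).2.1 * el e.1 hx * el (y k).1 (hconj _ (hg k)).1 :
        K) : Equiv.Perm GolayPt) = gperm (w k) := fun k => by
      simp only [w, el, Subgroup.coe_mul]
      rw [gperm_mul (okCode_mulP (dataP.ok _ (hconj _ (hg k)).2.1).1 (dataP.ok _ hx).1)
          (dataP.ok _ (hconj _ (hg k)).1).1,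
        gperm_mul (dataP.ok _ (hconj _ (hg k)).2.1).1 (dataP.ok _ hx).1]
    have hb := (congB_iff (hok i) (hok j) (hcoe i) (hcoe j)).2 himg
    rw [congB, Bool.or_eq_true, Nat.beq_eq, Nat.beq_eq] at hb
    obtain ⟨hn1, -, hn3⟩ := List.nodup_append.1 hn
    rcases hb with hb | hb
    · refine Fin.ext ((hn1.getElem_inj_iff (hi := by simp) (hj := by simp)).1 ?_)
      simpa [w, y] using hb
    · refine absurd hb (hn3 _ (List.mem_map.2 ⟨_, List.getElem_mem i.2, rfl⟩) _
        (List.mem_map.2 ⟨_, List.getElem_mem j.2, rfl⟩))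
  have h1 : Fintype.card (Fin e.2.1.length) ≤ Nat.card ((K ⧸ Subgroup.center K) ⧸ C) := by
    rw [← Nat.card_eq_fintype_card]
    exact Nat.card_le_card_of_injective f hf
  rw [Fintype.card_fin] at h1
  calc Nat.card C * e.2.1.length ≤ Nat.card C * C.index := Nat.mul_le_mul_left _ h1
    _ = 512 := by rw [Subgroup.card_mul_index, card_quot]

theorem reps_spec {e : ℕ × List ℕ × ℕ × ℕ} (he : e ∈ Data.reps) (hx : e.1 ∈ LP)
    (B : Subgroup (K ⧸ Subgroup.center K)) (hB : IsMulCommutative B) (hB64 : Nat.card B = 64) :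
    qm (el e.1 hx) ∉ B := by
  intro hmem
  have h := repsOk_P
  simp only [repsOk, Bool.and_eq_true, List.all_eq_true, Nat.beq_eq] at h
  obtain ⟨⟨hconj, -⟩, hreps⟩ := h
  have h := hreps e he
  simp only [repOk, Bool.and_eq_true, Bool.or_eq_true, List.all_eq_true, Nat.blt_eq, Nat.ble_eq,
    Bool.not_eq_true'] at h
  obtain ⟨⟨⟨-, hi⟩, hn⟩, hcase⟩ := h
  have hle := card_centralizer_mul_le (fun y hy => ⟨mem_of_check (hconj y hy).1.1,
    mem_of_check (hconj y hy).1.2, (hconj y hy).2⟩) hx hi (pairwise_of_nodupB hn)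
  have hBC : B ≤ Subgroup.centralizer ({qm (el e.1 hx)} : Set (K ⧸ Subgroup.center K)) := fun b hb =>
    Subgroup.mem_centralizer_singleton_iff.2 (congrArg Subtype.val (mul_comm' (M := B) ⟨b, hb⟩ ⟨_, hmem⟩))
  have hcard := Subgroup.card_le_of_le hBC
  rcases hcase with h9 | ⟨⟨⟨⟨⟨h8, hu⟩, hv⟩, hxu⟩, hxv⟩, huv⟩
  · have h1 := (Nat.mul_le_mul (hB64 ▸ hcard) h9).trans hle
    omega
  · have h1 := (Nat.mul_le_mul_left (Nat.card (Subgroup.centralizer
      ({qm (el e.1 hx)} : Set (K ⧸ Subgroup.center K)))) h8).trans hle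
    have heq : B = Subgroup.centralizer ({qm (el e.1 hx)} : Set (K ⧸ Subgroup.center K)) :=
      Subgroup.eq_of_le_of_card_ge hBC (by omega)
    have hu' := mem_of_check hu
    have hv' := mem_of_check hv
    have hmu : ∀ c (hc : c ∈ LP), commB e.1 c = true → qm (el c hc) ∈ B := fun c hc hxc => by
      rw [heq, Subgroup.mem_centralizer_singleton_iff]
      exact ((commB_iff hx hc).1 hxc).symm
    have := (commB_iff hu' hv').2 (congrArg Subtype.val
      (mul_comm' (M := B) ⟨_, hmu _ hu' hxu⟩ ⟨_, hmu _ hv' hxv⟩))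
    rw [huv] at this
    exact Bool.false_ne_true this

theorem cases_of_code {c : ℕ} (hc : c ∈ LP) : qm (el c hc) ∈ A64 ∨
    (∃ r, ∃ hr : r ∈ LP, r ∈ Data.exc ∧ qm (el c hc) = qm (el r hr)) ∨
    ∃ e ∈ Data.reps, ∃ hr : e.1 ∈ LP, qm (el c hc) = qm (el e.1 hr) := by
  have h := clsOk_P
  simp only [clsOk, Bool.and_eq_true, List.all_eq_true, Nat.beq_eq, Bool.or_eq_true] at h
  obtain ⟨hall, hlen⟩ := h
  obtain ⟨i, hi, rfl⟩ := List.getElem_of_mem hc
  have hic : i < Data.cls.length := by rw [hlen]; exact hi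
  have hz := hall (Data.cls[i], LP[i]) (List.mem_iff_getElem.2
    ⟨i, by rw [List.length_zip]; exact lt_min hic hi, by simp⟩)
  obtain ⟨⟨hfst, hcong⟩, hwhere⟩ := hz
  simp only at hfst hcong hwhere
  rw [hfst] at hcong
  have key : ∀ hr : (Data.cls[i]).2 ∈ LP, qm (el _ hc) = qm (el _ hr) := fun hr =>
    (congB_iff (dataP.ok _ hc).1 (dataP.ok _ hr).1 rfl rfl).1 hcong
  rcases hwhere with (hA | hE) | hR
  · have hrA : (Data.cls[i]).2 ∈ LA := mem_of_has hA
    obtain ⟨c', hc', e'⟩ := dataP.exists_code (dataA.le (dataA.gperm_mem hrA))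
    have := eq_of_gperm (dataA.ok _ hrA).1 (dataP.ok _ hc').1 (dataA.ok _ hrA).2 (dataP.ok _ hc').2 e'.symm
    exact Or.inl (key (this ▸ hc') ▸ code_mem_A64 (this ▸ hc') hrA)
  · have h := repsOk_P
    simp only [repsOk, Bool.and_eq_true, List.all_eq_true] at h
    have hr := mem_of_check (h.1.2 _ (mem_of_has hE))
    exact Or.inr (Or.inl ⟨_, hr, mem_of_has hE, key hr⟩)
  · obtain ⟨e, he, hee⟩ := List.mem_map.1 (mem_of_has hR)
    have h := repsOk_P
    simp only [repsOk, Bool.and_eq_true, List.all_eq_true] at h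
    have hr := h.2 e he
    simp only [repOk, Bool.and_eq_true] at hr
    have hr' := mem_of_check hr.1.1.1
    refine Or.inr (Or.inr ⟨e, he, hr', ?_⟩)
    exact (key (hee ▸ hr')).trans (congrArg qm (Subtype.ext (congrArg gperm hee.symm)))

theorem eq_A64 (B : Subgroup (K ⧸ Subgroup.center K)) (hB : IsMulCommutative B)
    (hB64 : Nat.card B = 64) : B = A64 := by
  classical
  by_contra hne
  let f : ℕ → K ⧸ Subgroup.center K := fun r => if hr : r ∈ LP then qm (el r hr) else 1
  let E : Set (K ⧸ Subgroup.center K) := f '' {r | r ∈ Data.exc}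
  have hsub : ∀ x ∈ B, x ∉ A64 → x ∈ E := by
    intro x hx hxA
    obtain ⟨c, hc, rfl⟩ := exists_code' x
    rcases cases_of_code hc with h | ⟨r, hr, hrE, h⟩ | ⟨e, he, hr, h⟩
    · exact absurd h hxA
    · refine ⟨r, hrE, ?_⟩
      simp only [f]
      rw [dif_pos hr, h]
    · exact absurd (h ▸ hx) (reps_spec he hr B hB hB64)
  have hE : E.ncard ≤ 16 := by
    refine (Set.ncard_image_le (List.finite_toSet _)).trans ?_
    rw [← List.coe_toFinset, Set.ncard_coe_finset]
    exact (List.toFinset_card_le _).trans exc_length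
  have hinf : 2 * Nat.card (B ⊓ A64 : Subgroup (K ⧸ Subgroup.center K)) ≤ 64 := by
    have hlt : B ⊓ A64 ≠ B := fun h => hne (Subgroup.eq_of_le_of_card_ge (h ▸ inf_le_right)
      (by rw [hB64, card_A64]))
    have hdvd := Subgroup.card_dvd_of_le (inf_le_left : B ⊓ A64 ≤ B)
    rw [hB64] at hdvd
    have hne' : Nat.card (B ⊓ A64 : Subgroup (K ⧸ Subgroup.center K)) ≠ 64 := fun h =>
      hlt (Subgroup.eq_of_le_of_card_ge inf_le_left (by rw [h, hB64]))
    obtain ⟨j, hj, hj'⟩ := (Nat.dvd_prime_pow Nat.prime_two).1 (show _ ∣ 2 ^ 6 from hdvd)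
    rw [hj'] at hne' ⊢
    interval_cases j <;> omega
  have hcount : (B : Set (K ⧸ Subgroup.center K)) ⊆ ((B ⊓ A64 : Subgroup _) : Set _) ∪ E :=
    fun x hx => by
      by_cases h : x ∈ A64
      · exact Or.inl ⟨hx, h⟩
      · exact Or.inr (hsub x hx h)
  have h1 := (Set.ncard_le_ncard hcount (Set.toFinite _)).trans (Set.ncard_union_le _ _)
  rw [← Nat.card_coe_set_eq (B : Set (K ⧸ Subgroup.center K)), ← Nat.card_coe_set_eq ((B ⊓ A64 : Subgroup (K ⧸ Subgroup.center K)) : Set (K ⧸ Subgroup.center K))] at h1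
  change Nat.card B ≤ Nat.card (B ⊓ A64 : Subgroup (K ⧸ Subgroup.center K)) + _ at h1
  omega

/-! ### maximal subgroups -/

theorem card_center_le (M : Subgroup (K ⧸ Subgroup.center K)) (hM : IsCoatom M) :
    Nat.card (Subgroup.center M) ≤ 8 := by
  classical
  have hp : IsPGroup 2 (K ⧸ Subgroup.center K) := IsPGroup.of_card (n := 9) (by rw [card_quot]; norm_num)
  have hidx : M.index = 2 := by
    haveI : Fact (Nat.Prime 2) := ⟨Nat.prime_two⟩
    exact Lib.PGroups.coatom_index hp hM
  have hgen : ∀ g ∈ gensP, g ∈ LP := dataP.genMem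
  let G : Fin 4 → ℕ := fun i => gensP.getD i.1 oneCode
  have hG : ∀ i, G i ∈ LP := fun i => by
    simp only [G]
    rw [List.getD_eq_getElem _ _ (by exact i.2)]
    exact hgen _ (List.getElem_mem _)
  let v : Fin 4 → Bool := fun i => !decide (qm (el (G i) (hG i)) ∈ M)
  have hv : v 0 || v 1 || v 2 || v 3 := by
    by_contra h
    simp only [Bool.not_eq_true, Bool.or_eq_false_iff, v, Bool.not_eq_false', decide_eq_true_eq] at h
    obtain ⟨⟨⟨h0, h1⟩, h2⟩, h3⟩ := h
    apply hM.1
    rw [eq_top_iff]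
    intro x _
    obtain ⟨y, rfl⟩ := QuotientGroup.mk'_surjective _ x
    obtain ⟨y, hy⟩ := y
    induction hy using Subgroup.closure_induction with
    | mem y hy =>
      obtain ⟨g, hg, rfl⟩ := hy
      obtain ⟨i, hi, rfl⟩ := List.getElem_of_mem hg
      change i < 4 at hi
      interval_cases i
      · exact h0
      · exact h1
      · exact h2
      · exact h3
    | one => exact one_mem M
    | mul a b ha hb iha ihb =>
      exact mul_mem (iha trivial : qm ⟨a, ha⟩ ∈ M) (ihb trivial : qm ⟨b, hb⟩ ∈ M)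
    | inv a ha iha => exact inv_mem (iha trivial : qm ⟨a, ha⟩ ∈ M)
  have hck := maxOk_P
  simp only [maxOk, List.all_eq_true, forceNat_eq, Bool.or_eq_true, Nat.ble_eq] at hck
  have hck' := (hck (v 0) (by cases v 0 <;> simp) (v 1) (by cases v 1 <;> simp) (v 2)
    (by cases v 2 <;> simp) (v 3) (by cases v 3 <;> simp)).resolve_left (by simp [hv])
  have hzip : ∀ p ∈ List.zip gensP [v 0, v 1, v 2, v 3], ∃ hc : p.1 ∈ LP,
      (p.2 = false ↔ qm (el p.1 hc) ∈ M) := by
    intro p hp
    obtain ⟨i, hi, rfl⟩ := List.getElem_of_mem hp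
    have h4 : i < 4 := by
      rw [List.length_zip] at hi
      exact hi.trans_le (min_le_right _ _)
    interval_cases i
    · exact ⟨hG 0, show (v 0 = false ↔ qm (el (G 0) (hG 0)) ∈ M) by simp only [v, Bool.not_eq_false']; exact decide_eq_true_iff⟩
    · exact ⟨hG 1, show (v 1 = false ↔ qm (el (G 1) (hG 1)) ∈ M) by simp only [v, Bool.not_eq_false']; exact decide_eq_true_iff⟩
    · exact ⟨hG 2, show (v 2 = false ↔ qm (el (G 2) (hG 2)) ∈ M) by simp only [v, Bool.not_eq_false']; exact decide_eq_true_iff⟩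
    · exact ⟨hG 3, show (v 3 = false ↔ qm (el (G 3) (hG 3)) ∈ M) by simp only [v, Bool.not_eq_false']; exact decide_eq_true_iff⟩
  have hT : ∀ c ∈ maxCodes [v 0, v 1, v 2, v 3], ∃ hc : c ∈ LP, qm (el c hc) ∈ M := by
    intro c hc
    simp only [maxCodes, List.mem_append, List.mem_map, List.mem_filter, Bool.not_eq_true'] at hc
    rcases hc with ⟨p, ⟨hp', hp2⟩, rfl⟩ | ⟨g, ⟨p, ⟨hp', hp2⟩, rfl⟩, rfl⟩
    · obtain ⟨h, h'⟩ := hzip p hp'
      exact ⟨h, h'.1 hp2⟩
    · set yes := List.map Prod.fst ((List.zip gensP [v 0, v 1, v 2, v 3]).filter fun p => p.2)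
      have hy : yes.getD 0 oneCode ∈ yes := by
        have hne : p.1 ∈ yes := List.mem_map.2 ⟨p, List.mem_filter.2 ⟨hp', hp2⟩, rfl⟩
        rw [List.getD_eq_getElem _ _ (List.length_pos_of_mem hne)]
        exact List.getElem_mem _
      obtain ⟨p₀, hp₀, hp₀'⟩ := List.mem_map.1 hy
      obtain ⟨hp₀1, hp₀2⟩ := List.mem_filter.1 hp₀
      obtain ⟨h, h'⟩ := hzip p hp'
      obtain ⟨h₀, h₀'⟩ := hzip p₀ hp₀1
      rw [← hp₀']
      obtain ⟨d, hd, hde⟩ := exists_code (el p₀.1 h₀ * el p.1 h)
      have hcd : canon (mulP 24 5 p₀.1 p.1) = d :=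
        dataP.eq_of_mem_mul h₀ h hd (congrArg Subtype.val hde)
      refine ⟨hcd ▸ hd, ?_⟩
      have : el (canon (mulP 24 5 p₀.1 p.1)) (hcd ▸ hd) = el p₀.1 h₀ * el p.1 h := by
        rw [hde]; exact Subtype.ext (congrArg gperm hcd)
      rw [this, map_mul, Subgroup.mul_mem_iff_of_index_two hidx]
      refine iff_of_false (fun hm => ?_) (fun hm => ?_)
      · simp [h₀'.2 hm] at hp₀2
      · simp [h'.2 hm] at hp2
  let Z : Subgroup (K ⧸ Subgroup.center K) := (Subgroup.center M).map M.subtype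
  have hZ : Nat.card Z = Nat.card (Subgroup.center M) :=
    Subgroup.card_map_of_injective M.subtype_injective
  have hcomm : ∀ x ∈ Z.comap qm, ∃ c ∈ LP.filter (fun x => (maxCodes [v 0, v 1, v 2, v 3]).all
      fun y => commB x y), gperm c = (x : Equiv.Perm GolayPt) := by
    intro x hx
    obtain ⟨c, hc, rfl⟩ := exists_code x
    obtain ⟨z, hz, hzx⟩ := hx
    refine ⟨c, List.mem_filter.2 ⟨hc, List.all_eq_true.2 fun y hy => ?_⟩, rfl⟩
    obtain ⟨hyL, hyM⟩ := hT y hy
    rw [commB_iff hc hyL, ← hzx]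
    exact congrArg Subtype.val (Subgroup.mem_center_iff.1 hz ⟨_, hyM⟩).symm
  have hle : Nat.card (Z.comap qm) ≤ 16 := by
    refine le_trans ?_ hck'
    rw [List.countP_eq_length_filter]
    let g : Z.comap qm → (LP.filter (fun x => (maxCodes [v 0, v 1, v 2, v 3]).all
      fun y => commB x y)).toFinset := fun x => ⟨(hcomm x x.2).choose,
        List.mem_toFinset.2 (hcomm x x.2).choose_spec.1⟩
    have hg : Function.Injective g := fun a b h => Subtype.ext (Subtype.ext (by
      rw [← (hcomm a a.2).choose_spec.2, ← (hcomm b b.2).choose_spec.2]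
      exact congrArg gperm (congrArg Subtype.val h)))
    refine (Nat.card_le_card_of_injective g hg).trans ?_
    rw [Nat.card_eq_fintype_card, Fintype.card_coe]
    exact List.toFinset_card_le _
  have := card_comap Z
  omega

/-- An isomorphism from any Sylow 2-subgroup of M24 to the coded one. -/
theorem nonempty_mulEquiv (P : Sylow 2 M24) : Nonempty ((P : Subgroup M24) ≃* K) := by
  haveI : Fact (Nat.Prime 2) := ⟨Nat.prime_two⟩
  have hfac : (Nat.card M24).factorization 2 = 10 := by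
    rw [card_M24, show (244823040 : ℕ) = 2 ^ 10 * 239085 by norm_num,
      Nat.factorization_mul (by norm_num) (by norm_num), Finsupp.add_apply,
      Nat.Prime.factorization_pow Nat.prime_two, Finsupp.single_eq_same,
      Nat.factorization_eq_zero_of_not_dvd (by norm_num : ¬ 2 ∣ 239085)]
  obtain ⟨T, hT⟩ : ∃ T : Sylow 2 M24, (T : Subgroup M24) = K.subgroupOf M24 := by
    refine ⟨Sylow.ofCard _ ?_, rfl⟩
    rw [hfac]
    exact (Nat.card_congr (Subgroup.subgroupOfEquivOfLe dataP.le).toEquiv).trans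
      (card_K.trans (by norm_num))
  exact ⟨((Sylow.equiv P T).trans (MulEquiv.subgroupCongr hT)).trans
    (Subgroup.subgroupOfEquivOfLe dataP.le)⟩

/-- Transfer of the statements to an isomorphic group. -/
theorem transfer {P : Type*} [Group P] (e : P ≃* K) :
    (∀ M : Subgroup (P ⧸ Subgroup.center P), IsCoatom M → Nat.card (Subgroup.center M) ≤ 8) ∧
    (∃ A : Subgroup (P ⧸ Subgroup.center P), Cfsg.IsElementaryAbelian 2 A ∧ Nat.card A = 64) ∧
    ∀ A B : Subgroup (P ⧸ Subgroup.center P), IsMulCommutative A → Nat.card A = 64 →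
      IsMulCommutative B → Nat.card B = 64 → A = B := by
  have hcen : (Subgroup.center P).map e.toMonoidHom = Subgroup.center K := by
    ext x
    obtain ⟨y, rfl⟩ := e.surjective x
    simp only [Subgroup.mem_map, MulEquiv.coe_toMonoidHom, EmbeddingLike.apply_eq_iff_eq,
      exists_eq_right, Subgroup.mem_center_iff]
    constructor
    · intro h g
      obtain ⟨g, rfl⟩ := e.surjective g
      rw [← map_mul, ← map_mul, h g]
    · intro h g
      exact e.injective (by rw [map_mul, map_mul, h (e g)])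
  let f : P ⧸ Subgroup.center P ≃* K ⧸ Subgroup.center K := QuotientGroup.congr _ _ e hcen
  have hcomm : ∀ B : Subgroup (P ⧸ Subgroup.center P), IsMulCommutative B →
      IsMulCommutative (B.map f.toMonoidHom) := fun B hB => inferInstance
  have hcard : ∀ B : Subgroup (P ⧸ Subgroup.center P), Nat.card (B.map f.toMonoidHom) = Nat.card B :=
    fun B => Subgroup.card_map_of_injective f.injective
  refine ⟨fun M hM => ?_, ⟨A64.map f.symm.toMonoidHom, ?_, ?_⟩, fun A B hA hA' hB hB' => ?_⟩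
  · have hM' : IsCoatom (M.map f.toMonoidHom) :=
      (MulEquiv.mapSubgroup f).isCoatom_iff M |>.2 hM
    refine le_trans (le_of_eq (Nat.card_congr (Subgroup.centerCongr (M.equivMapOfInjective _ ?_)).toEquiv))
      (card_center_le _ hM')
    exact f.injective
  · refine ⟨?_, ?_⟩
    · haveI := isElementaryAbelian_A64.1
      infer_instance
    · rintro _ ⟨x, hx, rfl⟩
      rw [← map_pow, isElementaryAbelian_A64.2 x hx, map_one]
  · rw [Subgroup.card_map_of_injective (f := f.symm.toMonoidHom) f.symm.injective, card_A64]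
  · refine Subgroup.map_injective (f := f.toMonoidHom) f.injective ?_
    rw [eq_A64 _ (hcomm A hA) ((hcard A).trans hA'), eq_A64 _ (hcomm B hB) ((hcard B).trans hB')]

end Cfsg.Agent.Lib.M24SylowQuot
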